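import Groth.Agent.Ega4Fib.H176.SecDvr

/-!
# Dimension of an irreducible open subset of a fibre
-/

set_option autoImplicit false
open CategoryTheory AlgebraicGeometry Limits TopologicalSpace Topology
universe u

namespace Groth.Agent.Ega4Fib.H176.SecDim

open Groth.Agent.Ega4Fib.H176.SecDvr

/-- The dimension of an irreducible open subset of a fibre is the fibre dimension at each of its points. -/
theorem dim_eq_fibreDimAt {X Y : Scheme.{u}} (f : X ⟶ Y) [LocallyOfFiniteType f] {y : Y} {C O : Set X}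
    (hO : IsOpen O) (hC : C = O ∩ f ⁻¹' {y}) (hirr : IsIrreducible C) {x : X} (hx : x ∈ C) :
    topologicalKrullDim C = FlatMor.fibreDimAt f x := by
  let O' : X.Opens := ⟨O, hO⟩
  have hi : O'.ι '' ((O'.ι ≫ f) ⁻¹' {y}) = C := by
    rw [hC]
    ext w
    constructor
    · rintro ⟨⟨v, hv⟩, hv', rfl⟩
      exact ⟨hv, hv'⟩
    · rintro ⟨hw1, hw2⟩
      exact ⟨⟨w, hw1⟩, hw2, rfl⟩
  have hpre : (O'.ι ≫ f) ⁻¹' {y} = O'.ι ⁻¹' C := by
    rw [← hi, Set.preimage_image_eq _ O'.ι.isEmbedding.injective]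
  have h1 : IsIrreducible ((O'.ι ≫ f) ⁻¹' {y}) := by
    rw [hpre]
    refine ⟨?_, VarietyB.DimTop.isPreirreducible_preimage O'.ι.isEmbedding.isInducing
      hirr.isPreirreducible ?_⟩
    · obtain ⟨x, hx⟩ := hirr.nonempty
      rw [← hi] at hx
      obtain ⟨v, hv, rfl⟩ := hx
      exact ⟨v, by rw [← hpre]; exact hv⟩
    · rw [← hi]; exact Set.image_subset_range _ _
  obtain ⟨d, hd, hd'⟩ := exists_nat_dim_fibre (O'.ι ≫ f) y h1
  have e : (((O'.ι ≫ f) ⁻¹' {y} : Set ↑O')) ≃ₜ (O'.ι '' ((O'.ι ≫ f) ⁻¹' {y}) : Set X) :=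
    O'.ι.isEmbedding.homeomorphImage _
  rw [IsHomeomorph.topologicalKrullDim_eq e e.isHomeomorph, hi] at hd
  have hx' : x ∈ O ∧ f x = y := by rw [hC] at hx; exact hx
  have h2 := hd' ⟨x, hx'.1⟩ hx'.2
  rw [hd, ← h2, FlatA.FibreDim.fibreDimAt_eq, FlatA.FibreDim.fibreDimAt_eq]
  exact (FlatA.FibreDim.localDim_fibre_eq (j := (O'.ι : _ → X)) (i := (id : Y → Y)) (f := (f : X → Y))
    (g := (O'.ι ≫ f : ↑O' → Y)) O'.ι.isOpenEmbedding Function.injective_id (fun a => rfl) ⟨x, hx'.1⟩).symm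

end Groth.Agent.Ega4Fib.H176.SecDim
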