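import Groth.Agent.Flat2G.ProperDim
import Groth.Agent.VarietyB.FibreGeneric
import Groth.Agent.CycA.ClosurePt
import Groth.Agent.S0402
import Groth.Agent.Sga3C.LocConn
import Groth.Agent.Fga.DimLt
import Groth.Agent.Ega43.FibreDimFinite
import Groth.Agent.Flat2D.RatPointConn
import Groth.Prelude.Def_FDesc

/-!
# Components of fibres along a section: specialization under constancy of dimension

* `exists_generic_of_dim`: for `q : P ⟶ T` locally of finite type, `D₁` an irreducible closed subset of the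
  fibre over `a`, `D₂` an irreducible open subset of the fibre over `b`, of the same dimension, such that
  `D₂` meets the closure of `D₁`: the generic point of `D₁` specializes to every point of `D₂`.
* `isIrreducible_ov`, `dim_ov`: base change of geometrically irreducible open subsets of fibres.
-/

set_option autoImplicit false
open CategoryTheory AlgebraicGeometry Limits TopologicalSpace Topology
universe u

namespace Groth.Agent.Ega4Fib.H176.SecDvr

/-- If a fibre is irreducible, it has finite dimension, equal to the local fibre dimension everywhere. -/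
theorem exists_nat_dim_fibre {X Y : Scheme.{u}} (f : X ⟶ Y) [LocallyOfFiniteType f] (y : Y)
    (h : IsIrreducible (f ⁻¹' {y})) :
    ∃ d : ℕ, topologicalKrullDim (f ⁻¹' {y}) = d ∧
      ∀ x, f x = y → FlatMor.fibreDimAt f x = d := by
  have hirr : IrreducibleSpace (f ⁻¹' {y}) := Subtype.irreducibleSpace h
  have hirr' : IrreducibleSpace (f.fiber y) :=
    (f.fiberHomeo y).symm.surjective.irreducibleSpace (f.fiberHomeo y).symm.continuous
  let : (f.fiber y).Over (Spec (CommRingCat.of (Y.residueField y))) := ⟨f.fiberToSpecResidueField y⟩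
  have hft : LocallyOfFiniteType ((f.fiber y) ↘ (Spec (CommRingCat.of (Y.residueField y)))) :=
    inferInstanceAs (LocallyOfFiniteType (pullback.snd f (Y.fromSpecResidueField y)))
  have key : ∀ x : f.fiber y, FlatMor.localDim (f.fiber y) x = topologicalKrullDim (f.fiber y) := fun x =>
    VarietyB.FibreGeneric.localDim_eq_dim (Y.residueField y) (f.fiber y) x
  obtain ⟨x₀, hx₀⟩ := h.nonempty
  obtain ⟨d, hd⟩ := Ega43.FibreDimFinite.exists_fibreDimAt_eq f x₀
  have hx : ∀ x, f x = y → FlatMor.fibreDimAt f x = topologicalKrullDim (f.fiber y) := by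
    rintro x rfl
    exact key _
  refine ⟨d, ?_, ?_⟩
  · rw [← FlatA.FibreDim.topologicalKrullDim_fiber_eq, ← hx x₀ hx₀, hd]
  · intro x hx'
    rw [hx x hx', ← hx x₀ hx₀, hd]

/-- The generic point of an irreducible closed subset of a fibre. -/
theorem exists_generic_mem {P T : Scheme.{u}} (q : P ⟶ T) {a : T} {D F : Set P} (h : IsIrreducible D)
    (hF : IsClosed F) (hD : D = F ∩ q ⁻¹' {a}) : ∃ ζ ∈ D, closure {ζ} = closure D := by
  have hsub : D ⊆ Set.range (q.fiberι a) := by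
    rw [q.range_fiberι, hD]; exact Set.inter_subset_right
  have h1 : (q.fiberι a) ⁻¹' D = (q.fiberι a) ⁻¹' F := by
    ext w
    have hw : q.fiberι a w ∈ q ⁻¹' {a} := by rw [← q.range_fiberι]; exact ⟨w, rfl⟩
    rw [Set.mem_preimage, hD]
    exact ⟨fun h => h.1, fun h => ⟨h, hw⟩⟩
  have h2 : IsIrreducible ((q.fiberι a) ⁻¹' D) := by
    refine ⟨?_, VarietyB.DimTop.isPreirreducible_preimage (q.fiberι a).isEmbedding.isInducing
      h.isPreirreducible hsub⟩
    obtain ⟨x, hx⟩ := h.nonempty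
    obtain ⟨w, rfl⟩ := hsub hx
    exact ⟨w, hx⟩
  have h3 : IsClosed ((q.fiberι a) ⁻¹' D) := by
    rw [h1]; exact hF.preimage (q.fiberι a).continuous
  obtain ⟨w, hw⟩ := QuasiSober.sober h2 h3
  have hw' : closure {w} = (q.fiberι a) ⁻¹' D := hw
  refine ⟨q.fiberι a w, ?_, ?_⟩
  · have : w ∈ (q.fiberι a) ⁻¹' D := hw' ▸ subset_closure rfl
    exact this
  · apply subset_antisymm
    · refine closure_mono ?_
      rw [Set.singleton_subset_iff]
      have : w ∈ (q.fiberι a) ⁻¹' D := hw' ▸ subset_closure rfl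
      exact this
    · refine closure_minimal ?_ isClosed_closure
      intro x hx
      obtain ⟨v, rfl⟩ := hsub hx
      have hv : v ∈ closure {w} := by rw [hw']; exact hx
      exact specializes_iff_mem_closure.mp
        ((specializes_iff_mem_closure.mpr hv).map (q.fiberι a).continuous)

/-- Key lemma: see the module documentation. -/
theorem exists_generic_of_dim {P T : Scheme.{u}} (q : P ⟶ T) [LocallyOfFiniteType q] {a b : T}
    {D₁ D₂ F₁ O₂ : Set P} (h₁ : IsIrreducible D₁) (h₂ : IsIrreducible D₂)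
    (hF₁ : IsClosed F₁) (hD₁ : D₁ = F₁ ∩ q ⁻¹' {a})
    (hO₂ : IsOpen O₂) (hD₂ : D₂ = O₂ ∩ q ⁻¹' {b})
    (hdim : topologicalKrullDim D₁ = topologicalKrullDim D₂)
    (hs : (D₂ ∩ closure D₁).Nonempty) : ∃ ζ ∈ D₁, ∀ x ∈ D₂, ζ ⤳ x := by
  obtain ⟨ζ, hζ, hζc⟩ := exists_generic_mem q h₁ hF₁ hD₁
  refine ⟨ζ, hζ, ?_⟩
  obtain ⟨Z, i, hi, hZ, hiζ, hir⟩ := CycA.ClosurePt.exists_closure_subscheme ζ
  have hft : LocallyOfFiniteType (i ≫ q) := inferInstance
  -- the fibre of `Z` over `a`
  have hfa : i '' ((i ≫ q) ⁻¹' {a}) = D₁ := by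
    apply subset_antisymm
    · rintro _ ⟨z, hz, rfl⟩
      rw [hD₁]
      refine ⟨?_, hz⟩
      have h1 : i z ∈ closure D₁ := by rw [← hζc, ← hir]; exact ⟨z, rfl⟩
      refine closure_minimal ?_ hF₁ h1
      rw [hD₁]; exact Set.inter_subset_left
    · intro x hx
      have h1 : x ∈ Set.range i := by rw [hir, hζc]; exact subset_closure hx
      obtain ⟨z, rfl⟩ := h1
      rw [hD₁] at hx
      exact ⟨z, hx.2, rfl⟩
  have hirr : IsIrreducible ((i ≫ q) ⁻¹' {a}) := by
    have h3 : (i ≫ q) ⁻¹' {a} = i ⁻¹' D₁ := by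
      rw [← hfa, Set.preimage_image_eq _ i.isEmbedding.injective]
    rw [h3]
    refine ⟨?_, VarietyB.DimTop.isPreirreducible_preimage i.isEmbedding.isInducing
      h₁.isPreirreducible ?_⟩
    · exact ⟨genericPoint Z, by rw [Set.mem_preimage, hiζ]; exact hζ⟩
    · rw [← hfa]; exact Set.image_subset_range _ _
  obtain ⟨d, hd, hd'⟩ := exists_nat_dim_fibre (i ≫ q) a hirr
  -- the dimension of `D₁`
  have hdD₁ : topologicalKrullDim D₁ = d := by
    rw [← hd]
    have e : ((i ≫ q) ⁻¹' {a} : Set Z) ≃ₜ (i '' ((i ≫ q) ⁻¹' {a}) : Set P) :=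
      i.isEmbedding.homeomorphImage _
    rw [IsHomeomorph.topologicalKrullDim_eq e e.isHomeomorph, hfa]
  -- the special point
  obtain ⟨s, hs₂, hs₁⟩ := hs
  obtain ⟨z, rfl⟩ : s ∈ Set.range i := by rw [hir, hζc]; exact hs₁
  have hζa : (i ≫ q) (genericPoint Z) = a := by
    rw [Scheme.Hom.comp_apply, hiζ]
    rw [hD₁] at hζ
    exact hζ.2
  have hzb : (i ≫ q) z = b := by
    rw [Scheme.Hom.comp_apply]
    rw [hD₂] at hs₂
    exact hs₂.2
  have hge : (d : WithBot ℕ∞) ≤ FlatMor.fibreDimAt (i ≫ q) z := by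
    obtain ⟨e, he⟩ := Ega43.FibreDimFinite.exists_fibreDimAt_eq (i ≫ q) z
    by_contra hlt
    rw [not_le] at hlt
    have h4 : z ∈ {x : Z | FlatMor.fibreDimAt (i ≫ q) x ≤ e} := he.le
    have h5 : genericPoint Z ∈ {x : Z | FlatMor.fibreDimAt (i ≫ q) x ≤ e} :=
      (genericPoint_specializes z).mem_open (S0402.result (i ≫ q) e) h4
    have h6 : FlatMor.fibreDimAt (i ≫ q) (genericPoint Z) ≤ e := h5
    rw [hd' _ hζa] at h6
    rw [he] at hlt
    exact absurd h6 (not_le.mpr hlt)
  -- the intersection with `D₂`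
  rw [FlatA.FibreDim.fibreDimAt_eq] at hge
  let U : Opens ((i ≫ q) ⁻¹' {(i ≫ q) z}) :=
    ⟨Subtype.val ⁻¹' (i ⁻¹' O₂), (hO₂.preimage i.continuous).preimage continuous_subtype_val⟩
  have hzU : (⟨z, rfl⟩ : ((i ≫ q) ⁻¹' {(i ≫ q) z})) ∈ U := by
    change i z ∈ O₂
    rw [hD₂] at hs₂
    exact hs₂.1
  have h7 := hge.trans (VarietyB.DimTop.localDim_le U hzU)
  have : IrreducibleSpace D₂ := Subtype.irreducibleSpace h₂
  let B : Set D₂ := Subtype.val ⁻¹' (Set.range i)
  have hB : IsClosed B := by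
    have : IsClosed (Set.range i) := by rw [hir]; exact isClosed_closure
    exact this.preimage continuous_subtype_val
  have hmemU : ∀ v : ↥(U : Set ((i ≫ q) ⁻¹' {(i ≫ q) z})), i v.1.1 ∈ D₂ := by
    rintro ⟨⟨v, hv1⟩, hv2⟩
    rw [hD₂]
    refine ⟨hv2, ?_⟩
    rw [hzb] at hv1
    exact hv1
  let θ : ↥(U : Set ((i ≫ q) ⁻¹' {(i ≫ q) z})) → B := fun v => ⟨⟨i v.1.1, hmemU v⟩, ⟨v.1.1, rfl⟩⟩
  have hθ : IsInducing θ := by
    refine IsInducing.of_comp (g := fun b : B => (b.1.1 : P)) ?_ ?_ ?_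
    · refine Continuous.subtype_mk (Continuous.subtype_mk ?_ _) _
      exact i.continuous.comp (continuous_subtype_val.comp continuous_subtype_val)
    · exact continuous_subtype_val.comp continuous_subtype_val
    · exact i.isEmbedding.isInducing.comp (IsInducing.subtypeVal.comp IsInducing.subtypeVal)
  have h8 : (d : WithBot ℕ∞) ≤ topologicalKrullDim B := h7.trans hθ.topologicalKrullDim_le
  have hBu : B = Set.univ := by
    by_contra hne
    have h9 := Fga.DimLt.exists_ltSeries_succ hB hne h8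
    rw [← hdim, hdD₁] at h9
    have h10 : (d + 1 : ℕ) ≤ d := by exact_mod_cast h9
    omega
  intro x hx
  have h11 : (⟨x, hx⟩ : D₂) ∈ B := by rw [hBu]; trivial
  have h12 : x ∈ Set.range i := h11
  rw [hir] at h12
  exact specializes_iff_mem_closure.mpr h12

/-- The part over `t` of the preimage of `C`. -/
def ov {P X T : Scheme.{u}} (p : P ⟶ X) (q : P ⟶ T) (C : Set X) (t : T) : Set P :=
  {w | q w = t ∧ p w ∈ C}

section

variable {X Y P T : Scheme.{u}} {p : P ⟶ X} {q : P ⟶ T} {f : X ⟶ Y} {g : T ⟶ Y}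

/-- Geometric irreducibility gives irreducibility after any base change. -/
theorem isIrreducible_ov (h : IsPullback p q f g) (t : T) (C : Set X)
    (hgi : ∀ (K : Type u) [Field K] [Algebra (IsLocalRing.ResidueField (Y.presheaf.stalk (g t))) K],
      IsIrreducible ((FBase.bcπ (f.fiberToSpecResidueField (g t)) K ≫ f.fiberι (g t)).base ⁻¹' C)) :
    IsIrreducible (ov p q C t) := by
  let : Algebra (IsLocalRing.ResidueField (Y.presheaf.stalk (g t))) (T.residueField t) :=
    (g.residueFieldMap t).hom.toAlgebra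
  let b : q.fiber t ⟶ f.fiber (g t) :=
    pullback.map q (T.fromSpecResidueField t) f (Y.fromSpecResidueField (g t)) p
      (Spec.map (g.residueFieldMap t)) g h.w.symm (by simp)
  have h1 : IsPullback b (q.fiberToSpecResidueField t) (f.fiberToSpecResidueField (g t))
      (Spec.map (g.residueFieldMap t)) := isPullback_fiberToSpecResidueField_of_isPullback h t
  have hbι : b ≫ f.fiberι (g t) = q.fiberι t ≫ p := pullback.lift_fst _ _ _
  have h2 := hgi (T.residueField t)
  let e : q.fiber t ≅ FBase.bc (f.fiberToSpecResidueField (g t)) (T.residueField t) := h1.isoPullback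
  have he : e.hom ≫ FBase.bcπ (f.fiberToSpecResidueField (g t)) (T.residueField t) = b :=
    h1.isoPullback_hom_fst
  have h3 := h2.image (e.inv ≫ q.fiberι t) (e.inv ≫ q.fiberι t).continuous.continuousOn
  have hcomm : ∀ v : q.fiber t, (FBase.bcπ (f.fiberToSpecResidueField (g t)) (T.residueField t) ≫
      f.fiberι (g t)) (e.hom v) = p (q.fiberι t v) := by
    intro v
    rw [← Scheme.Hom.comp_apply, ← Scheme.Hom.comp_apply, ← Category.assoc, he, hbι]
  have hinv : ∀ v : q.fiber t, e.inv (e.hom v) = v := fun v => by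
    rw [← Scheme.Hom.comp_apply, e.hom_inv_id]; rfl
  have hhom : ∀ v, e.hom (e.inv v) = v := fun v => by
    rw [← Scheme.Hom.comp_apply, e.inv_hom_id]; rfl
  convert h3
  ext w
  constructor
  · rintro ⟨hw1, hw2⟩
    obtain ⟨v, rfl⟩ : w ∈ Set.range (q.fiberι t) := by rw [q.range_fiberι]; exact hw1
    refine ⟨e.hom v, ?_, ?_⟩
    · change (FBase.bcπ (f.fiberToSpecResidueField (g t)) (T.residueField t) ≫
        f.fiberι (g t)) (e.hom v) ∈ C
      rw [hcomm]; exact hw2
    · rw [Scheme.Hom.comp_apply, hinv]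
  · rintro ⟨v, hv, rfl⟩
    obtain ⟨v, rfl⟩ : ∃ v', e.hom v' = v := ⟨e.inv v, hhom v⟩
    rw [Scheme.Hom.comp_apply, hinv]
    refine ⟨?_, ?_⟩
    · have : q.fiberι t v ∈ q ⁻¹' {t} := by rw [← q.range_fiberι]; exact ⟨v, rfl⟩
      exact this
    · rw [← hcomm]; exact hv

/-- Invariance of the dimension of open subsets of fibres under base change. -/
theorem dim_ov [LocallyOfFiniteType f] (h : IsPullback p q f g) (t : T) {C O : Set X} (hO : IsOpen O)
    (hC : C = O ∩ f ⁻¹' {g t}) : topologicalKrullDim (ov p q C t) = topologicalKrullDim C := by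
  let O' : X.Opens := ⟨O, hO⟩
  have h1 : IsPullback (p ∣_ O') ((p ⁻¹ᵁ O').ι ≫ q) (O'.ι ≫ f) g :=
    (isPullback_morphismRestrict p O').paste_vert h
  have h2 := Flat2G.ProperDim.topologicalKrullDim_fiber_baseChange _ _ _ _ h1 t
  rw [FlatA.FibreDim.topologicalKrullDim_fiber_eq, FlatA.FibreDim.topologicalKrullDim_fiber_eq] at h2
  have e1 : ((((p ⁻¹ᵁ O').ι ≫ q) ⁻¹' {t} : Set ↑(p ⁻¹ᵁ O'))) ≃ₜ
      ((p ⁻¹ᵁ O').ι '' (((p ⁻¹ᵁ O').ι ≫ q) ⁻¹' {t}) : Set P) :=
    (p ⁻¹ᵁ O').ι.isEmbedding.homeomorphImage _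
  have e2 : (((O'.ι ≫ f) ⁻¹' {g t} : Set ↑O')) ≃ₜ (O'.ι '' ((O'.ι ≫ f) ⁻¹' {g t}) : Set X) :=
    O'.ι.isEmbedding.homeomorphImage _
  have hcomm : ∀ w : P, f (p w) = g (q w) := fun w => by
    rw [← Scheme.Hom.comp_apply, ← Scheme.Hom.comp_apply, h.w]
  have i1 : (p ⁻¹ᵁ O').ι '' (((p ⁻¹ᵁ O').ι ≫ q) ⁻¹' {t}) = ov p q C t := by
    ext w
    constructor
    · rintro ⟨⟨v, hv⟩, hv', rfl⟩
      have hv'' : q v = t := hv'
      refine ⟨hv', ?_⟩
      rw [hC]
      refine ⟨hv, ?_⟩
      change f (p v) = g t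
      rw [hcomm, hv'']
    · rintro ⟨hw1, hw2⟩
      rw [hC] at hw2
      exact ⟨⟨w, hw2.1⟩, hw1, rfl⟩
  have i2 : O'.ι '' ((O'.ι ≫ f) ⁻¹' {g t}) = C := by
    rw [hC]
    ext w
    constructor
    · rintro ⟨⟨v, hv⟩, hv', rfl⟩
      exact ⟨hv, hv'⟩
    · rintro ⟨hw1, hw2⟩
      exact ⟨⟨w, hw1⟩, hw2, rfl⟩
  rw [IsHomeomorph.topologicalKrullDim_eq e1 e1.isHomeomorph,
    IsHomeomorph.topologicalKrullDim_eq e2 e2.isHomeomorph, i1, i2] at h2
  exact h2

end

/-- Connected components of fibres of morphisms locally of finite type are locally closed: open in the fibre. -/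
theorem exists_open_closed {X Y : Scheme.{u}} (f : X ⟶ Y) [LocallyOfFiniteType f] (y : Y) (x : X)
    (hx : f x = y) :
    (∃ O : Set X, IsOpen O ∧ connectedComponentIn (f ⁻¹' {y}) x = O ∩ f ⁻¹' {y}) ∧
    (∃ F : Set X, IsClosed F ∧ connectedComponentIn (f ⁻¹' {y}) x = F ∩ f ⁻¹' {y}) := by
  obtain ⟨w, rfl⟩ : x ∈ Set.range (f.fiberι y) := by rw [f.range_fiberι]; exact hx
  rw [Flat2D.RatPointConn.connectedComponentIn_preimage_singleton]
  have hft : LocallyOfFiniteType (f.fiberToSpecResidueField y) :=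
    inferInstanceAs (LocallyOfFiniteType (pullback.snd f (Y.fromSpecResidueField y)))
  have hN : IsLocallyNoetherian (f.fiber y) :=
    LocallyOfFiniteType.isLocallyNoetherian (f.fiberToSpecResidueField y)
  have hLC := Sga3C.LocConn.locallyConnectedSpace_of_isLocallyNoetherian (f.fiber y)
  constructor
  · have h1 : IsOpen (connectedComponent w) := isOpen_connectedComponent
    obtain ⟨O, hO, hO'⟩ := (f.fiberι y).isEmbedding.isInducing.isOpen_iff.mp h1
    refine ⟨O, hO, ?_⟩
    rw [← hO', Set.image_preimage_eq_inter_range, f.range_fiberι]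
  · have h1 : IsClosed (connectedComponent w) := isClosed_connectedComponent
    obtain ⟨O, hO, hO'⟩ := (f.fiberι y).isEmbedding.isInducing.isClosed_iff.mp h1
    refine ⟨O, hO, ?_⟩
    rw [← hO', Set.image_preimage_eq_inter_range, f.range_fiberι]

end Groth.Agent.Ega4Fib.H176.SecDvr
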